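/-
Bit-sliced exact integer vectors, evaluated by the kernel on big natural numbers.

A vector with integer coordinates is a list `l` of planes (little endian) together with a sign plane `s`:
the coordinate `i` is `Σ bit (l k) i * 2 ^ k - bit s i * 2 ^ length l` (two's complement, `dec s l i`).
All operations are exact for every input: additions make the list one plane longer, `trim` removes
redundant planes on top. The elementary operations are masked swaps of the coordinates `i` and `i + d`,
masked sign changes, masked butterflies `(x, y) ↦ (x + y, x - y)` and masked halvings and doublings.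
-/
import Mathlib

set_option autoImplicit false

namespace Cfsg.Agent.BitVecs.Core

/-! ### forcing evaluation -/

/-- `seq n k = k n`, but the kernel evaluates `n` to a literal first. -/
noncomputable def seq {α : Type} (n : ℕ) (k : ℕ → α) : α := Bool.rec (k n) (k n) (Nat.beq n 0)

theorem seq_eq {α : Type} (n : ℕ) (k : ℕ → α) : seq n k = k n := by
  unfold seq; cases Nat.beq n 0 <;> rfl

/-! ### decoding -/

/-- A bit as an integer. -/
def bz (p i : ℕ) : ℤ := if p.testBit i then 1 else 0

/-- The coordinate `i` of the vector with planes `l` and sign plane `s`. -/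
def dec (s : ℕ) : List ℕ → ℕ → ℤ
  | [], i => - bz s i
  | p :: l, i => bz p i + 2 * dec s l i

@[simp] theorem dec_nil (s i : ℕ) : dec s [] i = - bz s i := rfl
@[simp] theorem dec_cons (s p : ℕ) (l : List ℕ) (i : ℕ) : dec s (p :: l) i = bz p i + 2 * dec s l i := rfl

/-- A packed vector: the sign plane and the other planes. -/
structure PV where
  s : ℕ
  l : List ℕ

/-- The coordinates of a packed vector. -/
def PV.dec (x : PV) (i : ℕ) : ℤ := Core.dec x.s x.l i

/-- The coordinates of a packed vector, as rational numbers. -/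
def PV.val (x : PV) (i : ℕ) : ℚ := (x.dec i : ℚ)

/-! ### bit operations -/

/-- `p` without the bits of `m`. -/
def cut (p m : ℕ) : ℕ := Nat.xor p (Nat.land p m)

/-- Majority. -/
def maj (p q c : ℕ) : ℕ := Nat.lor (Nat.land p q) (Nat.land (Nat.lor p q) c)

/-- `p` on the mask `m`, `q` outside. -/
def sel (m p q : ℕ) : ℕ := Nat.lor (Nat.land p m) (cut q m)

/-- masked swap of the bits `i` and `i + d`, for `i` in `m`. -/
def dsw (m d x : ℕ) : ℕ :=
  (fun t => Nat.xor (Nat.xor x t) (Nat.shiftLeft t d)) (Nat.land (Nat.xor (Nat.shiftRight x d) x) m)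

theorem testBit_cut (p m i : ℕ) : (cut p m).testBit i = (p.testBit i && !m.testBit i) := by
  show (p ^^^ (p &&& m)).testBit i = _
  rw [Nat.testBit_xor, Nat.testBit_and]
  cases p.testBit i <;> cases m.testBit i <;> rfl

theorem testBit_maj (p q c i : ℕ) : (maj p q c).testBit i =
    ((p.testBit i && q.testBit i) || ((p.testBit i || q.testBit i) && c.testBit i)) := by
  show ((p &&& q) ||| ((p ||| q) &&& c)).testBit i = _
  simp only [Nat.testBit_or, Nat.testBit_and]

theorem testBit_sel (m p q i : ℕ) : (sel m p q).testBit i = (if m.testBit i then p.testBit i else q.testBit i) := by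
  show ((p &&& m) ||| (cut q m)).testBit i = _
  rw [Nat.testBit_or, Nat.testBit_and, testBit_cut]
  cases p.testBit i <;> cases m.testBit i <;> cases q.testBit i <;> rfl

/-- The position map of a masked swap. -/
def sw (m d i : ℕ) : ℕ :=
  if m.testBit i then i + d else if d ≤ i ∧ m.testBit (i - d) then i - d else i

/-- A swap is valid when its mask is disjoint from its shift. -/
def Valid (m d : ℕ) : Prop := ∀ i, m.testBit i = true → m.testBit (i + d) = false

/-- The test for `Valid`. -/
def valid (m d : ℕ) : Bool := Nat.beq (Nat.land m (Nat.shiftRight m d)) 0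

theorem valid_sound {m d : ℕ} (h : valid m d = true) : Valid m d := by
  intro i hi
  have h0 : m &&& (m >>> d) = 0 := Nat.eq_of_beq_eq_true h
  have h1 : (m &&& (m >>> d)).testBit i = false := by rw [h0]; simp
  rw [Nat.testBit_and, Nat.testBit_shiftRight, hi, Bool.true_and, Nat.add_comm] at h1
  exact h1

theorem sw_of_mem {m d i : ℕ} (h : m.testBit i = true) : sw m d i = i + d := by
  simp [sw, h]

theorem sw_of_mem_sub {m d i : ℕ} (h : m.testBit i = false) (hd : d ≤ i)
    (h2 : m.testBit (i - d) = true) : sw m d i = i - d := by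
  simp [sw, h, hd, h2]

theorem sw_of_not {m d i : ℕ} (h : m.testBit i = false)
    (h2 : ¬ (d ≤ i ∧ m.testBit (i - d) = true)) : sw m d i = i := by
  unfold sw
  rw [if_neg (by rw [h]; exact Bool.false_ne_true), if_neg h2]

theorem sw_sw {m d : ℕ} (hv : Valid m d) (i : ℕ) : sw m d (sw m d i) = i := by
  by_cases h : m.testBit i = true
  · rw [sw_of_mem h]
    have h1 := hv i h
    rw [sw_of_mem_sub h1 (Nat.le_add_left _ _) (by simpa using h)]
    omega
  · rw [Bool.not_eq_true] at h
    by_cases h2 : d ≤ i ∧ m.testBit (i - d) = true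
    · rw [sw_of_mem_sub h h2.1 h2.2, sw_of_mem h2.2]
      omega
    · rw [sw_of_not h h2, sw_of_not h h2]

theorem testBit_dsw {m d : ℕ} (hv : Valid m d) (x i : ℕ) :
    (dsw m d x).testBit i = x.testBit (sw m d i) := by
  have e : dsw m d x = (x ^^^ (((x >>> d) ^^^ x) &&& m)) ^^^ ((((x >>> d) ^^^ x) &&& m) <<< d) := rfl
  rw [e]
  simp only [Nat.testBit_xor, Nat.testBit_and, Nat.testBit_shiftRight, Nat.testBit_shiftLeft]
  by_cases h : m.testBit i = true
  · rw [sw_of_mem h]
    have h3 : (decide (d ≤ i) && (((x.testBit (d + (i - d))) ^^ (x.testBit (i - d))) && m.testBit (i - d)))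
        = false := by
      by_cases hd : d ≤ i
      · have : m.testBit (i - d) = false := by
          by_contra hc
          rw [Bool.not_eq_false] at hc
          have := hv (i - d) hc
          rw [Nat.sub_add_cancel hd] at this
          rw [this] at h
          exact Bool.noConfusion h
        simp [this]
      · simp [hd]
    have h4 : (decide (i ≥ d) && (((x.testBit (d + (i - d))) ^^ (x.testBit (i - d))) && m.testBit (i - d)))
        = false := h3
    rw [h4, h]
    have : d + i = i + d := Nat.add_comm _ _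
    rw [this]
    cases x.testBit i <;> cases x.testBit (i + d) <;> rfl
  · rw [Bool.not_eq_true] at h
    by_cases h2 : d ≤ i ∧ m.testBit (i - d) = true
    · rw [sw_of_mem_sub h h2.1 h2.2, h, h2.2]
      have : d + (i - d) = i := by omega
      rw [this]
      simp only [ge_iff_le, h2.1, decide_true, Bool.and_false, Bool.and_true, Bool.true_and]
      cases x.testBit i <;> cases x.testBit (i - d) <;> rfl
    · rw [sw_of_not h h2, h]
      have h3 : (decide (i ≥ d) && (((x.testBit (d + (i - d))) ^^ (x.testBit (i - d))) && m.testBit (i - d)))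
          = false := by
        by_cases hd : d ≤ i
        · have : m.testBit (i - d) = false := by
            by_contra hc
            rw [Bool.not_eq_false] at hc
            exact h2 ⟨hd, hc⟩
          simp [this]
        · simp [hd]
      rw [h3]
      simp

/-! ### addition -/

/-- Add the carry plane `c` and the constant vector `- s'` to the planes `l` with sign `s`. -/
noncomputable def addS (s s' : ℕ) (l : List ℕ) : ℕ → (ℕ → List ℕ → PV) → PV :=
  List.rec (motive := fun _ => ℕ → (ℕ → List ℕ → PV) → PV)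
    (fun c k => seq (Nat.xor (Nat.xor s s') c) fun q =>
      seq (Nat.lor (Nat.land s s') (cut (Nat.lor s s') c)) fun t => k t [q])
    (fun p _ ih c k => seq (Nat.xor (Nat.xor p s') c) fun q =>
      seq (maj p s' c) fun c' => ih c' fun t r => k t (q :: r)) l

/-- Add two vectors and the carry plane `c`. -/
noncomputable def addL (s s' : ℕ) (l : List ℕ) : List ℕ → ℕ → (ℕ → List ℕ → PV) → PV :=
  List.rec (motive := fun _ => List ℕ → ℕ → (ℕ → List ℕ → PV) → PV)
    (fun l' c k => addS s' s l' c k)
    (fun p l0 ih l' c k =>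
      List.rec (motive := fun _ => PV)
        (addS s s' (p :: l0) c k)
        (fun p' l'' _ => seq (Nat.xor (Nat.xor p p') c) fun q =>
          seq (maj p p' c) fun c' => ih l'' c' fun t r => k t (q :: r)) l') l

theorem addS_nil (s s' c : ℕ) (k : ℕ → List ℕ → PV) : addS s s' [] c k =
    k (Nat.lor (Nat.land s s') (cut (Nat.lor s s') c)) [Nat.xor (Nat.xor s s') c] := by
  have : addS s s' [] c k = seq (Nat.xor (Nat.xor s s') c) fun q =>
      seq (Nat.lor (Nat.land s s') (cut (Nat.lor s s') c)) fun t => k t [q] := rfl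
  rw [this, seq_eq, seq_eq]

theorem addS_cons (s s' p : ℕ) (l : List ℕ) (c : ℕ) (k : ℕ → List ℕ → PV) : addS s s' (p :: l) c k =
    addS s s' l (maj p s' c) fun t r => k t (Nat.xor (Nat.xor p s') c :: r) := by
  have : addS s s' (p :: l) c k = seq (Nat.xor (Nat.xor p s') c) fun q =>
      seq (maj p s' c) fun c' => addS s s' l c' fun t r => k t (q :: r) := rfl
  rw [this, seq_eq, seq_eq]

theorem addL_nil (s s' : ℕ) (l' : List ℕ) (c : ℕ) (k : ℕ → List ℕ → PV) : addL s s' [] l' c k =
    addS s' s l' c k := rfl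

theorem addL_cons_nil (s s' p : ℕ) (l : List ℕ) (c : ℕ) (k : ℕ → List ℕ → PV) :
    addL s s' (p :: l) [] c k = addS s s' (p :: l) c k := rfl

theorem addL_cons_cons (s s' p p' : ℕ) (l l' : List ℕ) (c : ℕ) (k : ℕ → List ℕ → PV) :
    addL s s' (p :: l) (p' :: l') c k =
    addL s s' l l' (maj p p' c) fun t r => k t (Nat.xor (Nat.xor p p') c :: r) := by
  have : addL s s' (p :: l) (p' :: l') c k = seq (Nat.xor (Nat.xor p p') c) fun q =>
      seq (maj p p' c) fun c' => addL s s' l l' c' fun t r => k t (q :: r) := rfl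
  rw [this, seq_eq, seq_eq]

theorem bz_step (p q c i : ℕ) :
    bz (Nat.xor (Nat.xor p q) c) i + 2 * bz (maj p q c) i = bz p i + bz q i + bz c i := by
  unfold bz
  rw [testBit_maj]
  have : (Nat.xor (Nat.xor p q) c).testBit i = ((p.testBit i ^^ q.testBit i) ^^ c.testBit i) := by
    show ((p ^^^ q) ^^^ c).testBit i = _
    rw [Nat.testBit_xor, Nat.testBit_xor]
  rw [this]
  cases p.testBit i <;> cases q.testBit i <;> cases c.testBit i <;> simp

theorem bz_last (s s' c i : ℕ) :
    bz (Nat.xor (Nat.xor s s') c) i + 2 * - bz (Nat.lor (Nat.land s s') (cut (Nat.lor s s') c)) i =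
      - bz s i - bz s' i + bz c i := by
  unfold bz
  have h1 : (Nat.xor (Nat.xor s s') c).testBit i = ((s.testBit i ^^ s'.testBit i) ^^ c.testBit i) := by
    show ((s ^^^ s') ^^^ c).testBit i = _
    rw [Nat.testBit_xor, Nat.testBit_xor]
  have h2 : (Nat.lor (Nat.land s s') (cut (Nat.lor s s') c)).testBit i =
      ((s.testBit i && s'.testBit i) || ((s.testBit i || s'.testBit i) && !c.testBit i)) := by
    show ((s &&& s') ||| (cut (s ||| s') c)).testBit i = _
    rw [Nat.testBit_or, Nat.testBit_and, testBit_cut, Nat.testBit_or]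
  rw [h1, h2]
  cases s.testBit i <;> cases s'.testBit i <;> cases c.testBit i <;> simp

theorem addS_eq (s s' : ℕ) : ∀ (l : List ℕ) (c : ℕ), ∃ t r, (∀ k, addS s s' l c k = k t r) ∧
    ∀ i, dec t r i = dec s l i - bz s' i + bz c i
  | [], c => by
    refine ⟨_, _, fun k => addS_nil s s' c k, fun i => ?_⟩
    rw [dec_cons, dec_nil, dec_nil]
    exact bz_last s s' c i
  | p :: l, c => by
    obtain ⟨t, r, h1, h2⟩ := addS_eq s s' l (maj p s' c)
    refine ⟨t, Nat.xor (Nat.xor p s') c :: r, fun k => ?_, fun i => ?_⟩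
    · rw [addS_cons, h1]
    · rw [dec_cons, dec_cons, h2 i]
      have := bz_step p s' c i
      linarith

theorem addL_eq (s s' : ℕ) : ∀ (l l' : List ℕ) (c : ℕ), ∃ t r, (∀ k, addL s s' l l' c k = k t r) ∧
    ∀ i, dec t r i = dec s l i + dec s' l' i + bz c i
  | [], l', c => by
    obtain ⟨t, r, h1, h2⟩ := addS_eq s' s l' c
    refine ⟨t, r, fun k => h1 k, fun i => ?_⟩
    rw [h2 i, dec_nil]; ring
  | p :: l, [], c => by
    obtain ⟨t, r, h1, h2⟩ := addS_eq s s' (p :: l) c
    refine ⟨t, r, fun k => h1 k, fun i => ?_⟩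
    rw [h2 i, dec_nil]; ring
  | p :: l, p' :: l', c => by
    obtain ⟨t, r, h1, h2⟩ := addL_eq s s' l l' (maj p p' c)
    refine ⟨t, Nat.xor (Nat.xor p p') c :: r, fun k => ?_, fun i => ?_⟩
    · rw [addL_cons_cons, h1]
    · rw [dec_cons, dec_cons, dec_cons, h2 i]
      have := bz_step p p' c i
      linarith

/-! ### trimming -/

/-- Remove the redundant planes on top (planes equal to the sign plane). -/
noncomputable def trimL (s : ℕ) (l : List ℕ) : (List ℕ → PV) → PV :=
  List.rec (motive := fun _ => (List ℕ → PV) → PV)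
    (fun k => k [])
    (fun p _ ih k => ih fun r =>
      List.rec (motive := fun _ => PV)
        (Bool.rec (k [p]) (k []) (Nat.beq p s))
        (fun _ _ _ => k (p :: r)) r) l

/-- One step of `trimL`. -/
noncomputable def trimStep (s p : ℕ) (k : List ℕ → PV) (r : List ℕ) : PV :=
  List.rec (motive := fun _ => PV)
    (Bool.rec (k [p]) (k []) (Nat.beq p s))
    (fun _ _ _ => k (p :: r)) r

theorem trimL_cons (s p : ℕ) (l : List ℕ) (k : List ℕ → PV) :
    trimL s (p :: l) k = trimL s l (trimStep s p k) := rfl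

theorem trimStep_cons (s p q : ℕ) (k : List ℕ → PV) (r : List ℕ) :
    trimStep s p k (q :: r) = k (p :: q :: r) := rfl

theorem trimStep_nil (s p : ℕ) (k : List ℕ → PV) :
    trimStep s p k [] = if p = s then k [] else k [p] := by
  have h : trimStep s p k [] = Bool.rec (motive := fun _ => PV) (k [p]) (k []) (Nat.beq p s) := rfl
  rw [h]
  by_cases hp : p = s
  · rw [if_pos hp, hp, Nat.beq_refl]
  · rw [if_neg hp]
    have : Nat.beq p s = false := by
      rw [Bool.eq_false_iff]; intro hc; exact hp (Nat.eq_of_beq_eq_true hc)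
    rw [this]

theorem trimL_eq (s : ℕ) : ∀ (l : List ℕ), ∃ r, (∀ k, trimL s l k = k r) ∧ ∀ i, dec s r i = dec s l i
  | [] => ⟨[], fun _ => rfl, fun _ => rfl⟩
  | p :: l => by
    obtain ⟨r, h1, h2⟩ := trimL_eq s l
    rcases r with _ | ⟨q, r⟩
    · by_cases hp : p = s
      · refine ⟨[], fun k => ?_, fun i => ?_⟩
        · rw [trimL_cons, h1, trimStep_nil, if_pos hp]
        · rw [dec_cons, ← h2 i, dec_nil, hp]; ring
      · refine ⟨[p], fun k => ?_, fun i => ?_⟩
        · rw [trimL_cons, h1, trimStep_nil, if_neg hp]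
        · rw [dec_cons, dec_cons, ← h2 i]
    · refine ⟨p :: q :: r, fun k => ?_, fun i => ?_⟩
      · rw [trimL_cons, h1, trimStep_cons]
      · rw [dec_cons s p l, ← h2 i, dec_cons s p (q :: r)]

/-- Trim a packed vector. -/
noncomputable def trim (x : PV) : PV := PV.rec (fun s l => trimL s l fun r => ⟨s, r⟩) x

theorem dec_trim (x : PV) (i : ℕ) : (trim x).dec i = x.dec i := by
  obtain ⟨s, l⟩ := x
  obtain ⟨r, h1, h2⟩ := trimL_eq s l
  have e : trim ⟨s, l⟩ = trimL s l fun r => ⟨s, r⟩ := rfl
  rw [e, h1]; exact h2 i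

/-- The sum of two packed vectors. -/
noncomputable def add (x y : PV) : PV :=
  PV.rec (fun s l => PV.rec (fun s' l' => addL s s' l l' 0 fun t r => trimL t r fun r' => ⟨t, r'⟩) y) x

theorem bz_zero (i : ℕ) : bz 0 i = 0 := by simp [bz]

theorem dec_add (x y : PV) (i : ℕ) : (add x y).dec i = x.dec i + y.dec i := by
  obtain ⟨s, l⟩ := x
  obtain ⟨s', l'⟩ := y
  obtain ⟨t, r, h1, h2⟩ := addL_eq s s' l l' 0
  obtain ⟨r', h3, h4⟩ := trimL_eq t r
  have e : add ⟨s, l⟩ ⟨s', l'⟩ = addL s s' l l' 0 fun t r => trimL t r fun r' => ⟨t, r'⟩ := rfl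
  rw [e, h1, h3]
  show dec t r' i = _
  rw [h4, h2 i, bz_zero]
  simp only [PV.dec, add_zero]

/-! ### plane-wise maps -/

/-- Apply `f` to all planes. -/
noncomputable def mapL (f : ℕ → ℕ) (l : List ℕ) : (List ℕ → PV) → PV :=
  List.rec (motive := fun _ => (List ℕ → PV) → PV)
    (fun k => k [])
    (fun p _ ih k => seq (f p) fun q => ih fun r => k (q :: r)) l

theorem mapL_eq (f : ℕ → ℕ) : ∀ (l : List ℕ) (k : List ℕ → PV), mapL f l k = k (l.map f)
  | [], _ => rfl
  | p :: l, k => by
    have e : mapL f (p :: l) k = seq (f p) fun q => mapL f l fun r => k (q :: r) := rfl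
    rw [e, seq_eq, mapL_eq f l, List.map_cons]

/-- Apply `f` to all planes of a packed vector. -/
noncomputable def pmap (f : ℕ → ℕ) (x : PV) : PV :=
  PV.rec (fun s l => seq (f s) fun t => mapL f l fun r => ⟨t, r⟩) x

theorem pmap_eq (f : ℕ → ℕ) (x : PV) : pmap f x = ⟨f x.s, x.l.map f⟩ := by
  obtain ⟨s, l⟩ := x
  have e : pmap f ⟨s, l⟩ = seq (f s) fun t => mapL f l fun r => ⟨t, r⟩ := rfl
  rw [e, seq_eq, mapL_eq]

theorem dec_map_of_testBit {f : ℕ → ℕ} {i j : ℕ} (h : ∀ p, (f p).testBit i = p.testBit j) (s : ℕ) :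
    ∀ l : List ℕ, dec (f s) (l.map f) i = dec s l j
  | [] => by simp [bz, h]
  | p :: l => by
    rw [List.map_cons, dec_cons, dec_cons, dec_map_of_testBit h s l]
    simp [bz, h]

/-- Masked swap. -/
noncomputable def swp (m d : ℕ) (x : PV) : PV := pmap (dsw m d) x

theorem dec_swp {m d : ℕ} (hv : Valid m d) (x : PV) (i : ℕ) : (swp m d x).dec i = x.dec (sw m d i) := by
  rw [swp, pmap_eq]
  exact dec_map_of_testBit (fun p => testBit_dsw hv p i) x.s x.l

/-- Restriction to a mask. -/
noncomputable def msk (m : ℕ) (x : PV) : PV := pmap (fun p => Nat.land p m) x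

theorem dec_map_zero {f : ℕ → ℕ} {i : ℕ} (h : ∀ p, (f p).testBit i = false) (s : ℕ) :
    ∀ l : List ℕ, dec (f s) (l.map f) i = 0
  | [] => by simp [bz, h]
  | p :: l => by
    rw [List.map_cons, dec_cons, dec_map_zero h s l]
    simp [bz, h]

theorem dec_msk (m : ℕ) (x : PV) (i : ℕ) : (msk m x).dec i = if m.testBit i then x.dec i else 0 := by
  rw [msk, pmap_eq]
  by_cases h : m.testBit i = true
  · rw [if_pos h]
    refine dec_map_of_testBit (f := fun p => Nat.land p m) (j := i) (fun p => ?_) x.s x.l
    show (p &&& m).testBit i = _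
    rw [Nat.testBit_and, h, Bool.and_true]
  · rw [if_neg h]
    refine dec_map_zero (f := fun p => Nat.land p m) (fun p => ?_) x.s x.l
    show (p &&& m).testBit i = _
    rw [Nat.testBit_and]
    simpa using fun _ => h

/-! ### sign changes -/

/-- Complement the planes on the mask `m` and add the carry plane `c`. -/
noncomputable def negL (s m : ℕ) (l : List ℕ) : ℕ → (ℕ → List ℕ → PV) → PV :=
  List.rec (motive := fun _ => ℕ → (ℕ → List ℕ → PV) → PV)
    (fun c k => seq (Nat.xor s m) fun a => seq (Nat.xor a c) fun q => seq (cut a c) fun t => k t [q])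
    (fun p _ ih c k => seq (Nat.xor p m) fun a => seq (Nat.xor a c) fun q =>
      seq (Nat.land a c) fun c' => ih c' fun t r => k t (q :: r)) l

theorem negL_nil (s m c : ℕ) (k : ℕ → List ℕ → PV) : negL s m [] c k =
    k (cut (Nat.xor s m) c) [Nat.xor (Nat.xor s m) c] := by
  have : negL s m [] c k = seq (Nat.xor s m) fun a => seq (Nat.xor a c) fun q =>
    seq (cut a c) fun t => k t [q] := rfl
  rw [this, seq_eq, seq_eq, seq_eq]

theorem negL_cons (s m p : ℕ) (l : List ℕ) (c : ℕ) (k : ℕ → List ℕ → PV) : negL s m (p :: l) c k =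
    negL s m l (Nat.land (Nat.xor p m) c) fun t r => k t (Nat.xor (Nat.xor p m) c :: r) := by
  have : negL s m (p :: l) c k = seq (Nat.xor p m) fun a => seq (Nat.xor a c) fun q =>
      seq (Nat.land a c) fun c' => negL s m l c' fun t r => k t (q :: r) := rfl
  rw [this, seq_eq, seq_eq, seq_eq]

theorem negL_eq (s m : ℕ) : ∀ (l : List ℕ) (c : ℕ), ∃ t r, (∀ k, negL s m l c k = k t r) ∧
    ∀ i, dec t r i = (if m.testBit i then - 1 - dec s l i else dec s l i) + bz c i
  | [], c => by
    refine ⟨_, _, fun k => negL_nil s m c k, fun i => ?_⟩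
    · rw [dec_cons, dec_nil, dec_nil]
      unfold bz
      rw [testBit_cut]
      have h1 : (Nat.xor (Nat.xor s m) c).testBit i = ((s.testBit i ^^ m.testBit i) ^^ c.testBit i) := by
        show ((s ^^^ m) ^^^ c).testBit i = _
        rw [Nat.testBit_xor, Nat.testBit_xor]
      have h2 : (Nat.xor s m).testBit i = (s.testBit i ^^ m.testBit i) := Nat.testBit_xor ..
      rw [h1, h2]
      cases s.testBit i <;> cases m.testBit i <;> cases c.testBit i <;> simp
  | p :: l, c => by
    obtain ⟨t, r, h1, h2⟩ := negL_eq s m l (Nat.land (Nat.xor p m) c)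
    refine ⟨t, Nat.xor (Nat.xor p m) c :: r, fun k => ?_, fun i => ?_⟩
    · rw [negL_cons, h1]
    · rw [dec_cons, dec_cons, h2 i]
      unfold bz
      have h3 : (Nat.xor (Nat.xor p m) c).testBit i = ((p.testBit i ^^ m.testBit i) ^^ c.testBit i) := by
        show ((p ^^^ m) ^^^ c).testBit i = _
        rw [Nat.testBit_xor, Nat.testBit_xor]
      have h4 : (Nat.land (Nat.xor p m) c).testBit i = ((p.testBit i ^^ m.testBit i) && c.testBit i) := by
        show ((p ^^^ m) &&& c).testBit i = _
        rw [Nat.testBit_and, Nat.testBit_xor]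
      rw [h3, h4]
      cases p.testBit i <;> cases m.testBit i <;> cases c.testBit i <;> simp <;> ring

/-- Masked sign change. -/
noncomputable def neg (m : ℕ) (x : PV) : PV :=
  PV.rec (fun s l => negL s m l m fun t r => trimL t r fun r' => ⟨t, r'⟩) x

theorem dec_neg (m : ℕ) (x : PV) (i : ℕ) : (neg m x).dec i = if m.testBit i then - x.dec i else x.dec i := by
  obtain ⟨s, l⟩ := x
  obtain ⟨t, r, h1, h2⟩ := negL_eq s m l m
  obtain ⟨r', h3, h4⟩ := trimL_eq t r
  have e : neg m ⟨s, l⟩ = negL s m l m fun t r => trimL t r fun r' => ⟨t, r'⟩ := rfl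
  rw [e, h1, h3]
  show dec t r' i = _
  rw [h4, h2 i]
  unfold bz
  by_cases h : m.testBit i = true
  · simp only [h, if_true, PV.dec]; ring
  · simp only [h, PV.dec]; simp

/-! ### butterflies -/

/-- Masked butterfly: `(x i, x (i + d)) ↦ (x i + x (i + d), x i - x (i + d))` for `i` in `m`. -/
noncomputable def bfly (m d : ℕ) (x : PV) : PV :=
  seq (Nat.shiftLeft m d) fun m' => add (neg m' x) (msk (Nat.lor m m') (swp m d x))

theorem dec_bfly {m d : ℕ} (hv : Valid m d) (x : PV) (i : ℕ) : (bfly m d x).dec i =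
    if m.testBit i then x.dec i + x.dec (i + d)
    else if d ≤ i ∧ m.testBit (i - d) then x.dec (i - d) - x.dec i else x.dec i := by
  unfold bfly
  rw [seq_eq, dec_add, dec_neg, dec_msk, dec_swp hv]
  have h1 : (Nat.shiftLeft m d).testBit i = (decide (d ≤ i) && m.testBit (i - d)) := by
    show (m <<< d).testBit i = _
    rw [Nat.testBit_shiftLeft]
  have h2 : (Nat.lor m (Nat.shiftLeft m d)).testBit i = (m.testBit i || (decide (d ≤ i) && m.testBit (i - d))) := by
    show (m ||| (m <<< d)).testBit i = _
    rw [Nat.testBit_or, Nat.testBit_shiftLeft]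
  rw [h1, h2]
  by_cases h : m.testBit i = true
  · have h3 : ¬ (d ≤ i ∧ m.testBit (i - d) = true) := by
      rintro ⟨ha, hb⟩
      have := hv (i - d) hb
      rw [Nat.sub_add_cancel ha, h] at this
      exact Bool.noConfusion this
    have h4 : (decide (d ≤ i) && m.testBit (i - d)) = false := by
      by_contra hc
      rw [Bool.not_eq_false, Bool.and_eq_true, decide_eq_true_eq] at hc
      exact h3 hc
    rw [h4, h, if_pos rfl, sw_of_mem h]
    simp
  · rw [Bool.not_eq_true] at h
    by_cases h3 : d ≤ i ∧ m.testBit (i - d) = true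
    · rw [if_pos h3, sw_of_mem_sub h h3.1 h3.2]
      simp only [h3.1, h3.2, decide_true, Bool.and_true, Bool.or_true, if_true, h]
      simp
      ring
    · have h4 : (decide (d ≤ i) && m.testBit (i - d)) = false := by
        by_contra hc
        rw [Bool.not_eq_false, Bool.and_eq_true, decide_eq_true_eq] at hc
        exact h3 hc
      rw [if_neg h3, h4, h]
      simp

/-! ### halving and doubling -/

/-- Shift the planes down on the mask; `p` is the current plane. -/
noncomputable def hlvL (s m : ℕ) (l : List ℕ) : ℕ → (List ℕ → PV) → PV :=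
  List.rec (motive := fun _ => ℕ → (List ℕ → PV) → PV)
    (fun p k => seq (sel m s p) fun q => k [q])
    (fun p' _ ih p k => seq (sel m p' p) fun q => ih p' fun r => k (q :: r)) l

theorem hlvL_nil (s m p : ℕ) (k : List ℕ → PV) : hlvL s m [] p k = k [sel m s p] := by
  have : hlvL s m [] p k = seq (sel m s p) fun q => k [q] := rfl
  rw [this, seq_eq]

theorem hlvL_cons (s m p' : ℕ) (l : List ℕ) (p : ℕ) (k : List ℕ → PV) :
    hlvL s m (p' :: l) p k = hlvL s m l p' fun r => k (sel m p' p :: r) := by
  have : hlvL s m (p' :: l) p k = seq (sel m p' p) fun q => hlvL s m l p' fun r => k (q :: r) := rfl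
  rw [this, seq_eq]

theorem hlvL_eq (s m : ℕ) : ∀ (l : List ℕ) (p : ℕ), ∃ r, (∀ k, hlvL s m l p k = k r) ∧
    ∀ i, dec s r i = if m.testBit i then dec s l i else dec s (p :: l) i
  | [], p => by
    refine ⟨_, fun k => hlvL_nil s m p k, fun i => ?_⟩
    · rw [dec_cons, dec_nil]
      unfold bz
      rw [testBit_sel]
      cases m.testBit i
      · simp [bz]
      · simp
        cases s.testBit i <;> simp
  | p' :: l, p => by
    obtain ⟨r, h1, h2⟩ := hlvL_eq s m l p'
    refine ⟨sel m p' p :: r, fun k => ?_, fun i => ?_⟩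
    · rw [hlvL_cons, h1]
    · rw [dec_cons, h2 i]
      unfold bz
      rw [testBit_sel]
      cases m.testBit i <;> simp [bz]

/-- Masked halving; the second component tells whether the coordinates on the mask are even. -/
noncomputable def hlv (m : ℕ) (x : PV) (k : PV → Bool) : Bool :=
  PV.rec (fun s l => List.rec (motive := fun _ => Bool)
    (Bool.rec false (k ⟨s, []⟩) (Nat.beq (Nat.land s m) 0))
    (fun p l' _ => Bool.rec false (k (hlvL s m l' p fun r => trimL s r fun r' => ⟨s, r'⟩))
      (Nat.beq (Nat.land p m) 0)) l) x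

theorem testBit_of_land_eq_zero {p m : ℕ} (h : Nat.beq (Nat.land p m) 0 = true) {i : ℕ}
    (hm : m.testBit i = true) : p.testBit i = false := by
  have h0 : p &&& m = 0 := Nat.eq_of_beq_eq_true h
  have h1 : (p &&& m).testBit i = false := by rw [h0]; simp
  rw [Nat.testBit_and, hm, Bool.and_true] at h1
  exact h1

/-- `y` is `x` with the coordinates on the mask halved. -/
theorem hlv_eq {m : ℕ} {x : PV} {k : PV → Bool} (h : hlv m x k = true) :
    ∃ y : PV, k y = true ∧ ∀ i, x.dec i = if m.testBit i then 2 * y.dec i else y.dec i := by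
  obtain ⟨s, l⟩ := x
  rcases l with _ | ⟨p, l⟩
  · change Bool.rec false (k ⟨s, []⟩) (Nat.beq (Nat.land s m) 0) = true at h
    cases hb : Nat.beq (Nat.land s m) 0 with
    | false => rw [hb] at h; exact absurd h Bool.false_ne_true
    | true =>
      rw [hb] at h
      refine ⟨⟨s, []⟩, h, fun i => ?_⟩
      by_cases hm : m.testBit i = true
      · have := testBit_of_land_eq_zero hb hm
        simp [PV.dec, bz, this]
      · simp [hm]
  · change Bool.rec false (k (hlvL s m l p fun r => trimL s r fun r' => ⟨s, r'⟩))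
      (Nat.beq (Nat.land p m) 0) = true at h
    cases hb : Nat.beq (Nat.land p m) 0 with
    | false => rw [hb] at h; exact absurd h Bool.false_ne_true
    | true =>
      rw [hb] at h
      obtain ⟨r, h1, h2⟩ := hlvL_eq s m l p
      obtain ⟨r', h3, h4⟩ := trimL_eq s r
      change k (hlvL s m l p fun r => trimL s r fun r' => ⟨s, r'⟩) = true at h
      rw [h1, h3] at h
      refine ⟨⟨s, r'⟩, h, fun i => ?_⟩
      show dec s (p :: l) i = if m.testBit i then 2 * dec s r' i else dec s r' i
      rw [h4, h2 i]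
      by_cases hm : m.testBit i = true
      · have := testBit_of_land_eq_zero hb hm
        simp [hm, bz, this]
      · simp [hm]

/-- Shift the planes up on the mask; `p` is the previous plane. -/
noncomputable def dblL (s m : ℕ) (l : List ℕ) : ℕ → (List ℕ → PV) → PV :=
  List.rec (motive := fun _ => ℕ → (List ℕ → PV) → PV)
    (fun p k => seq (sel m p s) fun q => k [q])
    (fun p' _ ih p k => seq (sel m p p') fun q => ih p' fun r => k (q :: r)) l

theorem dblL_nil (s m p : ℕ) (k : List ℕ → PV) : dblL s m [] p k = k [sel m p s] := by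
  have : dblL s m [] p k = seq (sel m p s) fun q => k [q] := rfl
  rw [this, seq_eq]

theorem dblL_cons (s m p' : ℕ) (l : List ℕ) (p : ℕ) (k : List ℕ → PV) :
    dblL s m (p' :: l) p k = dblL s m l p' fun r => k (sel m p p' :: r) := by
  have : dblL s m (p' :: l) p k = seq (sel m p p') fun q => dblL s m l p' fun r => k (q :: r) := rfl
  rw [this, seq_eq]

theorem dblL_eq (s m : ℕ) : ∀ (l : List ℕ) (p : ℕ), ∃ r, (∀ k, dblL s m l p k = k r) ∧
    ∀ i, dec s r i = if m.testBit i then dec s (p :: l) i else dec s l i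
  | [], p => by
    refine ⟨_, fun k => dblL_nil s m p k, fun i => ?_⟩
    · rw [dec_cons, dec_nil]
      unfold bz
      rw [testBit_sel]
      cases m.testBit i
      · simp
        cases s.testBit i <;> simp
      · simp [bz]
  | p' :: l, p => by
    obtain ⟨r, h1, h2⟩ := dblL_eq s m l p'
    refine ⟨sel m p p' :: r, fun k => ?_, fun i => ?_⟩
    · rw [dblL_cons, h1]
    · rw [dec_cons, h2 i]
      unfold bz
      rw [testBit_sel]
      cases m.testBit i <;> simp [bz]

/-- Masked doubling. -/
noncomputable def dbl (m : ℕ) (x : PV) : PV :=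
  PV.rec (fun s l => dblL s m l 0 fun r => trimL s r fun r' => ⟨s, r'⟩) x

theorem dec_dbl (m : ℕ) (x : PV) (i : ℕ) : (dbl m x).dec i = if m.testBit i then 2 * x.dec i else x.dec i := by
  obtain ⟨s, l⟩ := x
  obtain ⟨r, h1, h2⟩ := dblL_eq s m l 0
  obtain ⟨r', h3, h4⟩ := trimL_eq s r
  have e : dbl m ⟨s, l⟩ = dblL s m l 0 fun r => trimL s r fun r' => ⟨s, r'⟩ := rfl
  rw [e, h1, h3]
  show dec s r' i = _
  rw [h4, h2 i]
  simp [PV.dec, bz_zero]

end Cfsg.Agent.BitVecs.Core
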