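/-
Programs of elementary operations on bit-sliced vectors: denotation as linear automorphisms of `ℕ → ℚ`
and kernel evaluation on packed vectors.
-/
import Cfsg.Agent.BitVecs.Core

set_option autoImplicit false

namespace Cfsg.Agent.BitVecs.Ops

open Cfsg.Agent.BitVecs.Core

/-- Elementary operations. -/
inductive Op : Type
  | swp (m d : ℕ) : Op
  | neg (m : ℕ) : Op
  | bfly (m d : ℕ) : Op
  | hlv (m : ℕ) : Op
  | dbl (m : ℕ) : Op

/-- Well-formedness on the coordinates `0, …, n - 1`. -/
noncomputable def Op.ok (n : ℕ) (o : Op) : Bool :=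
  Op.rec (motive := fun _ => Bool)
    (fun m d => and (Nat.beq (Nat.land m (Nat.shiftRight m d)) 0) (Nat.beq (Nat.shiftRight m (Nat.sub n d)) 0))
    (fun m => Nat.beq (Nat.shiftRight m n) 0)
    (fun m d => and (Nat.ble 1 d) (and (Nat.beq (Nat.land m (Nat.shiftRight m d)) 0)
      (Nat.beq (Nat.shiftRight m (Nat.sub n d)) 0)))
    (fun m => Nat.beq (Nat.shiftRight m n) 0)
    (fun m => Nat.beq (Nat.shiftRight m n) 0) o

/-! ### denotation -/

/-- The action on rational vectors. -/
def Op.fn : Op → (ℕ → ℚ) → (ℕ → ℚ)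
  | .swp m d, v, i => v (sw m d i)
  | .neg m, v, i => if m.testBit i then - v i else v i
  | .bfly m d, v, i => if m.testBit i then v i + v (i + d)
      else if d ≤ i ∧ m.testBit (i - d) then v (i - d) - v i else v i
  | .hlv m, v, i => if m.testBit i then v i / 2 else v i
  | .dbl m, v, i => if m.testBit i then 2 * v i else v i

/-- The action as a linear map. -/
def Op.lin (o : Op) : (ℕ → ℚ) →ₗ[ℚ] (ℕ → ℚ) where
  toFun := o.fn
  map_add' v w := by
    funext i
    cases o with
    | swp m d => rfl
    | neg m =>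
      simp only [Op.fn, Pi.add_apply]
      split_ifs <;> ring
    | bfly m d =>
      simp only [Op.fn, Pi.add_apply]
      split_ifs <;> ring
    | hlv m =>
      simp only [Op.fn, Pi.add_apply]
      split_ifs <;> ring
    | dbl m =>
      simp only [Op.fn, Pi.add_apply]
      split_ifs <;> ring
  map_smul' c v := by
    funext i
    cases o with
    | swp m d => rfl
    | neg m =>
      simp only [Op.fn, Pi.smul_apply, smul_eq_mul, RingHom.id_apply]
      split_ifs <;> ring
    | bfly m d =>
      simp only [Op.fn, Pi.smul_apply, smul_eq_mul, RingHom.id_apply]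
      split_ifs <;> ring
    | hlv m =>
      simp only [Op.fn, Pi.smul_apply, smul_eq_mul, RingHom.id_apply]
      split_ifs <;> ring
    | dbl m =>
      simp only [Op.fn, Pi.smul_apply, smul_eq_mul, RingHom.id_apply]
      split_ifs <;> ring

@[simp] theorem Op.lin_apply (o : Op) (v : ℕ → ℚ) : o.lin v = o.fn v := rfl

/-- The composition of a program (the first operation acts first). -/
def linL : List Op → ((ℕ → ℚ) →ₗ[ℚ] (ℕ → ℚ))
  | [] => LinearMap.id
  | o :: l => (linL l).comp o.lin

@[simp] theorem linL_nil (v : ℕ → ℚ) : linL [] v = v := rfl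
@[simp] theorem linL_cons (o : Op) (l : List Op) (v : ℕ → ℚ) : linL (o :: l) v = linL l (o.fn v) := rfl

theorem linL_append (l l' : List Op) (v : ℕ → ℚ) : linL (l ++ l') v = linL l' (linL l v) := by
  induction l generalizing v with
  | nil => rfl
  | cons o l ih => rw [List.cons_append, linL_cons, linL_cons, ih]

/-! ### evaluation -/

/-- Evaluate one operation. -/
noncomputable def Op.run (o : Op) (x : PV) (k : PV → Bool) : Bool :=
  Op.rec (motive := fun _ => Bool)
    (fun m d => Bool.rec false (PV.rec (fun s l => k ⟨s, l⟩) (Core.swp m d x)) (valid m d))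
    (fun m => PV.rec (fun s l => k ⟨s, l⟩) (Core.neg m x))
    (fun m d => Bool.rec false (PV.rec (fun s l => k ⟨s, l⟩) (Core.bfly m d x)) (valid m d))
    (fun m => Core.hlv m x k)
    (fun m => PV.rec (fun s l => k ⟨s, l⟩) (Core.dbl m x)) o

/-- Evaluate a program. -/
noncomputable def runL (l : List Op) : PV → (PV → Bool) → Bool :=
  List.rec (motive := fun _ => PV → (PV → Bool) → Bool) (fun x k => k x)
    (fun o _ ih x k => Op.run o x fun y => ih y k) l

theorem PV_rec_mk (x : PV) (k : PV → Bool) : PV.rec (motive := fun _ => Bool) (fun s l => k ⟨s, l⟩) x = k x := rfl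

theorem Op.run_sound {o : Op} {x : PV} {k : PV → Bool} (h : o.run x k = true) :
    ∃ y : PV, k y = true ∧ y.val = o.fn x.val := by
  cases o with
  | swp m d =>
    change Bool.rec false (PV.rec (fun s l => k ⟨s, l⟩) (Core.swp m d x)) (valid m d) = true at h
    cases hb : valid m d with
    | false => rw [hb] at h; exact absurd h Bool.false_ne_true
    | true =>
      rw [hb] at h
      refine ⟨Core.swp m d x, h, ?_⟩
      funext i
      show ((Core.swp m d x).dec i : ℚ) = (x.dec (sw m d i) : ℚ)
      rw [dec_swp (valid_sound hb)]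
  | neg m =>
    refine ⟨Core.neg m x, h, ?_⟩
    funext i
    show ((Core.neg m x).dec i : ℚ) = if m.testBit i then - (x.dec i : ℚ) else (x.dec i : ℚ)
    rw [dec_neg]
    split_ifs <;> push_cast <;> rfl
  | bfly m d =>
    change Bool.rec false (PV.rec (fun s l => k ⟨s, l⟩) (Core.bfly m d x)) (valid m d) = true at h
    cases hb : valid m d with
    | false => rw [hb] at h; exact absurd h Bool.false_ne_true
    | true =>
      rw [hb] at h
      refine ⟨Core.bfly m d x, h, ?_⟩
      funext i
      show ((Core.bfly m d x).dec i : ℚ) = if m.testBit i then (x.dec i : ℚ) + (x.dec (i + d) : ℚ)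
        else if d ≤ i ∧ m.testBit (i - d) then (x.dec (i - d) : ℚ) - (x.dec i : ℚ) else (x.dec i : ℚ)
      rw [dec_bfly (valid_sound hb)]
      split_ifs <;> push_cast <;> rfl
  | hlv m =>
    obtain ⟨y, h1, h2⟩ := hlv_eq (m := m) (x := x) (k := k) h
    refine ⟨y, h1, ?_⟩
    funext i
    show (y.dec i : ℚ) = if m.testBit i then (x.dec i : ℚ) / 2 else (x.dec i : ℚ)
    rw [h2 i]
    split_ifs
    · push_cast; ring
    · rfl
  | dbl m =>
    refine ⟨Core.dbl m x, h, ?_⟩
    funext i
    show ((Core.dbl m x).dec i : ℚ) = if m.testBit i then 2 * (x.dec i : ℚ) else (x.dec i : ℚ)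
    rw [dec_dbl]
    split_ifs <;> push_cast <;> rfl

theorem runL_sound : ∀ {l : List Op} {x : PV} {k : PV → Bool}, runL l x k = true →
    ∃ y : PV, k y = true ∧ y.val = linL l x.val
  | [], x, k, h => ⟨x, h, rfl⟩
  | o :: l, x, k, h => by
    change Op.run o x (fun y => runL l y k) = true at h
    obtain ⟨y, h1, h2⟩ := Op.run_sound h
    obtain ⟨z, h3, h4⟩ := runL_sound h1
    exact ⟨z, h3, by rw [h4, h2, linL_cons]⟩

/-! ### comparison -/

/-- Equality test of lists of planes. -/
noncomputable def eqL (l : List ℕ) : List ℕ → Bool :=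
  List.rec (motive := fun _ => List ℕ → Bool)
    (fun l' => List.rec (motive := fun _ => Bool) true (fun _ _ _ => false) l')
    (fun p _ ih l' => List.rec (motive := fun _ => Bool) false (fun q l'' _ => and (Nat.beq p q) (ih l'')) l') l

theorem eqL_sound : ∀ {l l' : List ℕ}, eqL l l' = true → l = l'
  | [], [], _ => rfl
  | [], _ :: _, h => absurd h Bool.false_ne_true
  | _ :: _, [], h => absurd h Bool.false_ne_true
  | p :: l, q :: l', h => by
    change and (Nat.beq p q) (eqL l l') = true at h
    rw [Bool.and_eq_true] at h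
    rw [Nat.eq_of_beq_eq_true h.1, eqL_sound h.2]

/-- Equality test of packed vectors. -/
noncomputable def eqP (x y : PV) : Bool :=
  PV.rec (fun s l => PV.rec (fun s' l' => and (Nat.beq s s') (eqL l l')) y) x

theorem eqP_sound {x y : PV} (h : eqP x y = true) : x = y := by
  obtain ⟨s, l⟩ := x
  obtain ⟨s', l'⟩ := y
  change and (Nat.beq s s') (eqL l l') = true at h
  rw [Bool.and_eq_true] at h
  rw [Nat.eq_of_beq_eq_true h.1, eqL_sound h.2]

/-- `runL l x` gives `y`: then the program maps the vector of `x` to the vector of `y`. -/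
theorem linL_eq_of_run {l : List Op} {x y : PV} (h : runL l x (eqP y) = true) : linL l x.val = y.val := by
  obtain ⟨z, h1, h2⟩ := runL_sound h
  rw [← h2, eqP_sound h1]

end Cfsg.Agent.BitVecs.Ops
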